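import Mathlib
import Cfsg.Agent.H19.Th.R248.B

set_option autoImplicit false
set_option maxRecDepth 100000
set_option Elab.async false
set_option linter.all false

namespace H19.Th.R248
open H29

theorem l0 : chkLetG M.mul M.one M.chk lcl Th.ivl 0 = true := by decide +kernel

theorem l1 : chkLetG M.mul M.one M.chk lcl Th.ivl 1 = true := by decide +kernel

theorem l2 : chkLetG M.mul M.one M.chk lcl Th.ivl 2 = true := by decide +kernel

theorem l3 : chkLetG M.mul M.one M.chk lcl Th.ivl 3 = true := by decide +kernel

theorem l4 : chkLetG M.mul M.one M.chk lcl Th.ivl 4 = true := by decide +kernel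

theorem l5 : chkLetG M.mul M.one M.chk lcl Th.ivl 5 = true := by decide +kernel

theorem l6 : chkLetG M.mul M.one M.chk lcl Th.ivl 6 = true := by decide +kernel

theorem l7 : chkLetG M.mul M.one M.chk lcl Th.ivl 7 = true := by decide +kernel

theorem l8 : chkLetG M.mul M.one M.chk lcl Th.ivl 8 = true := by decide +kernel

theorem l9 : chkLetG M.mul M.one M.chk lcl Th.ivl 9 = true := by decide +kernel

theorem l10 : chkLetG M.mul M.one M.chk lcl Th.ivl 10 = true := by decide +kernel

theorem r0 : chkRelC C.mul C.one lc (ivOf Th.ivl) G0 = true := by decide +kernel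

theorem r1 : chkRelC C.mul C.one lc (ivOf Th.ivl) G1 = true := by decide +kernel

theorem r2 : chkRelC C.mul C.one lc (ivOf Th.ivl) G2 = true := by decide +kernel

theorem r3 : chkRelC C.mul C.one lc (ivOf Th.ivl) G3 = true := by decide +kernel

end H19.Th.R248
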