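import Mathlib
import Cfsg.Agent.H19.Th.R248.B

set_option autoImplicit false
set_option maxRecDepth 100000
set_option Elab.async false
set_option linter.all false

namespace H19.Th.R248
open H29

theorem r4 : chkRelC C.mul C.one lc (ivOf Th.ivl) G4 = true := by decide +kernel

theorem r5 : chkRelC C.mul C.one lc (ivOf Th.ivl) G5 = true := by decide +kernel

theorem r6 : chkRelC C.mul C.one lc (ivOf Th.ivl) G6 = true := by decide +kernel

theorem r7 : chkRelC C.mul C.one lc (ivOf Th.ivl) G7 = true := by decide +kernel

end H19.Th.R248
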